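import Cfsg.Agent.Coprime.Action
import Cfsg.Agent.S0205

/-! Coprime action through a homomorphism into the automorphism group. -/

set_option autoImplicit false
set_option linter.style.haveILetI false

namespace Cfsg.Agent.FixedQuad

open Subgroup

universe u v

variable {A : Type u} [Group A] {H : Type v} [Group H]

/-- The fixed points of an action. -/
def fixSub (α : A →* MulAut H) : Subgroup H where
  carrier := {h | ∀ a, α a h = h}
  one_mem' := fun a => map_one _
  mul_mem' := fun {g h} hg hh a => by rw [map_mul, hg a, hh a]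
  inv_mem' := fun {g} hg a => by rw [map_inv, hg a]

theorem mem_fixSub {α : A →* MulAut H} {h : H} : h ∈ fixSub α ↔ ∀ a, α a h = h := Iff.rfl

/-- `A` leaves `N` invariant. -/
def Invar (α : A →* MulAut H) (N : Subgroup H) : Prop := ∀ a, ∀ h ∈ N, α a h ∈ N

theorem Invar.map_eq {α : A →* MulAut H} {N : Subgroup H} (hN : Invar α N) (a : A) :
    N.map (α a).toMonoidHom = N := by
  refine le_antisymm ?_ fun h hh => ?_
  · rintro _ ⟨h, hh, rfl⟩
    exact hN a h hh
  · refine ⟨α a⁻¹ h, hN a⁻¹ h hh, ?_⟩
    show α a (α a⁻¹ h) = h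
    rw [map_inv, MulAut.apply_inv_self]

theorem invar_of_map_eq {α : A →* MulAut H} {N : Subgroup H}
    (hN : ∀ a, N.map (α a).toMonoidHom = N) : Invar α N :=
  fun a h hh => (hN a).le ⟨h, hh, rfl⟩

theorem Invar.mem_iff {α : A →* MulAut H} {N : Subgroup H} (hN : Invar α N) (a : A) (h : H) :
    α a h ∈ N ↔ h ∈ N := by
  refine ⟨fun h' => ?_, hN a h⟩
  simpa using hN a⁻¹ _ h'

theorem solvable_or_of_coprime [Finite A] [Finite H]
    (hcop : (Nat.card A).Coprime (Nat.card H)) : Group.IsSolvable A ∨ Group.IsSolvable H := by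
  rcases Nat.even_or_odd (Nat.card H) with he | ho
  · left
    refine Cfsg.Agent.S0205.result ?_
    exact Nat.coprime_two_right.1 (hcop.coprime_dvd_right he.two_dvd)
  · exact Or.inr (Cfsg.Agent.S0205.result ho)

section Semidirect

variable (α : A →* MulAut H)

theorem semidirect_setup [Finite A] [Finite H] (hcop : (Nat.card A).Coprime (Nat.card H)) :
    Finite (H ⋊[α] A) ∧
      (SemidirectProduct.inr : A →* H ⋊[α] A).range ≤
        normalizer ((SemidirectProduct.inl : H →* H ⋊[α] A).range : Set (H ⋊[α] A)) ∧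
      (Nat.card (SemidirectProduct.inr : A →* H ⋊[α] A).range).Coprime
        (Nat.card (SemidirectProduct.inl : H →* H ⋊[α] A).range) ∧
      (Group.IsSolvable (SemidirectProduct.inr : A →* H ⋊[α] A).range ∨
        Group.IsSolvable (SemidirectProduct.inl : H →* H ⋊[α] A).range) := by
  refine ⟨Finite.of_equiv _ SemidirectProduct.equivProd.symm, ?_, ?_, ?_⟩
  · haveI : (SemidirectProduct.inl : H →* H ⋊[α] A).range.Normal := by
      rw [SemidirectProduct.range_inl_eq_ker_rightHom]; infer_instance
    exact le_normalizer_of_normal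
  · rw [← Nat.card_congr (MonoidHom.ofInjective
      (SemidirectProduct.inr_injective (φ := α))).toEquiv, ← Nat.card_congr (MonoidHom.ofInjective
      (SemidirectProduct.inl_injective (φ := α))).toEquiv]
    exact hcop
  · rcases solvable_or_of_coprime hcop with h | h
    · exact Or.inl (Group.isSolvable_of_surjective (f := (SemidirectProduct.inr : A →* H ⋊[α] A).rangeRestrict)
        (MonoidHom.rangeRestrict_surjective _))
    · exact Or.inr (Group.isSolvable_of_surjective (f := (SemidirectProduct.inl : H →* H ⋊[α] A).rangeRestrict)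
        (MonoidHom.rangeRestrict_surjective _))

/-- Fixed cosets of an invariant subgroup contain fixed elements. -/
theorem exists_fixed_lift [Finite A] [Finite H] (hcop : (Nat.card A).Coprime (Nat.card H))
    {N : Subgroup H} (hN : Invar α N) {h : H} (hfix : ∀ a, h⁻¹ * α a h ∈ N) :
    ∃ c ∈ fixSub α, h⁻¹ * c ∈ N := by
  obtain ⟨hfin, hnorm, hc, hs⟩ := semidirect_setup α hcop
  haveI := hfin
  set A' := (SemidirectProduct.inr : A →* H ⋊[α] A).range with hA'
  set N' := N.map (SemidirectProduct.inl : H →* H ⋊[α] A) with hN'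
  have hle : N' ≤ (SemidirectProduct.inl : H →* H ⋊[α] A).range := map_le_range _ _
  have hNA : A' ≤ normalizer (N' : Set (H ⋊[α] A)) := by
    rintro _ ⟨a, rfl⟩
    refine mem_normalizer_fintype fun x hx => ?_
    obtain ⟨n, hn, rfl⟩ := hx
    exact ⟨α a n, hN a n hn, by rw [SemidirectProduct.inl_aut, map_inv]⟩
  obtain ⟨c, ⟨⟨c0, rfl⟩, hcA⟩, hcN⟩ := Coprime.exists_fixed_mem_coset hNA
    (hc.coprime_dvd_right (card_dvd_of_le hle)) (hs.imp id (Coprime.isSolvable_of_le hle)) hle
    (k := SemidirectProduct.inl h) ⟨h, rfl⟩ (fun _ ⟨a, ha⟩ => by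
      refine ⟨h⁻¹ * α a h, hfix a, ?_⟩
      rw [← ha, map_mul, map_inv, SemidirectProduct.inl_aut]
      simp only [mul_assoc, map_inv])
  refine ⟨c0, fun a => ?_, ?_⟩
  · apply SemidirectProduct.inl_injective (φ := α)
    rw [SemidirectProduct.inl_aut, mem_centralizer_iff.1 hcA _ ⟨a, rfl⟩, mul_assoc, ← map_mul,
      mul_inv_cancel, map_one, mul_one]
  · rw [← map_inv, ← map_mul] at hcN
    obtain ⟨n, hn, he⟩ := hcN
    exact (SemidirectProduct.inl_injective he) ▸ hn

/-- Invariant Sylow subgroups exist. -/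
theorem exists_invar_sylow [Finite A] [Finite H] (hcop : (Nat.card A).Coprime (Nat.card H))
    (p : ℕ) [Fact p.Prime] : ∃ S : Sylow p H, Invar α (S : Subgroup H) := by
  obtain ⟨hfin, hnorm, hc, hs⟩ := semidirect_setup α hcop
  haveI := hfin
  obtain ⟨P, hP⟩ := Coprime.exists_invariant_sylow p hnorm hc hs
  set e := MonoidHom.ofInjective (SemidirectProduct.inl_injective (φ := α)) with he
  set Q := (P : Subgroup _).map e.symm.toMonoidHom with hQ
  have hcard : Nat.card Q = p ^ (Nat.card H).factorization p := by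
    rw [hQ, Nat.card_congr (Subgroup.equivMapOfInjective _ e.symm.toMonoidHom
      e.symm.injective).toEquiv.symm, P.card_eq_multiplicity, Nat.card_congr e.toEquiv]
  refine ⟨Sylow.ofCard Q hcard, fun a h hh => ?_⟩
  rw [Sylow.coe_ofCard, hQ] at hh ⊢
  obtain ⟨x, hx, rfl⟩ := hh
  have hmem : (SemidirectProduct.inr a : H ⋊[α] A) * (x : H ⋊[α] A) * (SemidirectProduct.inr a)⁻¹ ∈
      (P : Subgroup _).map (SemidirectProduct.inl : H →* H ⋊[α] A).range.subtype :=
    (mem_normalizer_iff.1 (hP ⟨a, rfl⟩) _).1 ⟨x, hx, rfl⟩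
  obtain ⟨y, hy, hye⟩ := hmem
  refine ⟨y, hy, ?_⟩
  apply SemidirectProduct.inl_injective (φ := α)
  have key : ∀ z, (SemidirectProduct.inl (e.symm z) : H ⋊[α] A) = (z : H ⋊[α] A) := fun z =>
    congrArg Subtype.val (e.apply_symm_apply z)
  show SemidirectProduct.inl (e.symm y) = SemidirectProduct.inl (α a (e.symm x))
  rw [SemidirectProduct.inl_aut, key, key]
  simpa using hye

end Semidirect

/-- The action on a quotient by an invariant normal subgroup. -/
def quotAct (α : A →* MulAut H) (N : Subgroup H) [N.Normal] (hN : Invar α N) :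
    A →* MulAut (H ⧸ N) where
  toFun a := QuotientGroup.congr N N (α a) (hN.map_eq a)
  map_one' := MulEquiv.ext fun x => by
    induction x using QuotientGroup.induction_on
    simp
  map_mul' a b := MulEquiv.ext fun x => by
    induction x using QuotientGroup.induction_on
    simp only [map_mul, MulAut.mul_apply]
    rfl

theorem quotAct_mk (α : A →* MulAut H) (N : Subgroup H) [N.Normal] (hN : Invar α N) (a : A)
    (h : H) : quotAct α N hN a (h : H ⧸ N) = ((α a h : H) : H ⧸ N) := rfl

theorem fix_quot_le [Finite A] [Finite H] (α : A →* MulAut H)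
    (hcop : (Nat.card A).Coprime (Nat.card H)) (N : Subgroup H) [N.Normal] (hN : Invar α N) :
    fixSub (quotAct α N hN) ≤ (fixSub α).map (QuotientGroup.mk' N) := by
  intro x hx
  obtain ⟨h, rfl⟩ := QuotientGroup.mk'_surjective N x
  obtain ⟨c, hc, hcN⟩ := exists_fixed_lift α hcop hN (h := h) fun a =>
    QuotientGroup.eq.1 (hx a).symm
  exact ⟨c, hc, (QuotientGroup.eq.2 hcN).symm⟩

end Cfsg.Agent.FixedQuad
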