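import Cfsg.Agent.FixedQuad.Pair
import Cfsg.Agent.Coprime.Conj
import Cfsg.Agent.S0205

/-!
A group of linear maps over the field with `p ≥ 5` elements, without nontrivial normal
`p`-subgroup and with a nontrivial quadratic element, contains a homomorphic image of `SL₂(p)`
centralised by any group of coprime order normalising it.
-/

set_option autoImplicit false
set_option linter.unusedSimpArgs false
set_option linter.unusedSectionVars false
set_option linter.style.haveILetI false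

namespace Cfsg.Agent.FixedQuad

open Cfsg Cfsg.Agent.RootSub Cfsg.Agent.RootSub.QP Cfsg.Agent.RootSub.SL2Gen
open scoped Pointwise

variable {p : ℕ} [Fact p.Prime] {M : Type*} [AddCommGroup M] [Module (ZMod p) M]

local notation "GLM" => LinearMap.GeneralLinearGroup (ZMod p) M
local notation "EndM" => M →ₗ[ZMod p] M

theorem qel_devMap {G : Subgroup GLM} {u : GLM} (hu : u ∈ G) (h : devMap u * devMap u = 0) :
    QEl G (devMap u) := by
  refine ⟨h, fun c => ?_⟩
  have key : ∀ n : ℕ, u ^ n = qunit ((n : ZMod p) • devMap u) := by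
    intro n
    induction n with
    | zero => simp [qunit_zero]
    | succ n ih =>
      have hn := smul_sq_zero h (n : ZMod p)
      rw [pow_succ, ih]
      conv_lhs => arg 2; rw [eq_qunit h]
      rw [qunit_mul hn h (by rw [smul_mul_assoc, h, smul_zero]) (by rw [mul_smul_comm, h, smul_zero]),
        Nat.cast_succ, add_smul, one_smul]
  rw [← ZMod.natCast_zmod_val c, ← key]
  exact pow_mem hu _

theorem small_ne_zero (hp5 : 5 ≤ p) {n : ℕ} (h0 : 0 < n) (hn : n < 5) : (n : ZMod p) ≠ 0 :=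
  fun h => Nat.not_dvd_of_pos_of_lt h0 (hn.trans_le hp5) ((ZMod.natCast_eq_zero_iff n p).1 h)

variable [Finite M]

theorem exists_fixed_sl2 (hp5 : 5 ≤ p) (G A : Subgroup GLM)
    (hA : A ≤ Subgroup.normalizer (G : Set GLM)) (hcop : (Nat.card A).Coprime (Nat.card G))
    (hcore : ∀ N : Subgroup GLM, N ≤ G → IsPGroup p N → (∀ g ∈ G, ∀ h ∈ N, g⁻¹ * h * g ∈ N) →
      N = ⊥)
    {u : GLM} (hu : u ∈ G) (hu1 : u ≠ 1) (hq : devMap u * devMap u = 0) :
    ∃ φ : Matrix.SpecialLinearGroup (Fin 2) (ZMod p) →* GLM,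
      (∀ g, φ g ∈ G ∧ ∀ α ∈ A, α * φ g = φ g * α) ∧ φ (uu 1) ≠ 1 := by
  classical
  haveI : FiniteDimensional (ZMod p) M := Module.Finite.of_finite
  haveI : Finite EndM := Finite.of_injective _ DFunLike.coe_injective
  haveI : Finite GLM := Finite.of_injective _ Units.val_injective
  have h2 : (2 : ZMod p) ≠ 0 := by exact_mod_cast small_ne_zero hp5 (n := 2) (by omega) (by omega)
  have h3' : (3 : ZMod p) ≠ 0 := by exact_mod_cast small_ne_zero hp5 (n := 3) (by omega) (by omega)
  have h3 : Nat.card (ZMod p) ≠ 3 := by rw [Nat.card_zmod]; omega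
  have hP : Partners G := partners_of_core h2 h3 p hcore
  have hd : devMap u ≠ 0 := fun h0 => hu1 (by rw [eq_qunit hq, h0, qunit_zero])
  obtain ⟨s, hs⟩ := exists_minQ (qel_devMap hu hq) hd
  obtain ⟨t0, ht0, hi0⟩ := hP s hs
  obtain ⟨t, ht, ht1, hp⟩ := exists_pair_in_class h2 h3 hs ht0 hi0 (self_mem_classSpace hs.1) hs.ne_zero
  obtain ⟨htm, -, -⟩ := ht0.class_spec ht ht1
  set L := compGroup G s with hL
  have hsc := self_mem_comp hs
  have htc : t ∈ comp G s := mem_comp_of_inv hsc htm (hp.inv hs htm)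
  -- `A` has odd order
  have hAodd : Odd (Nat.card A) := by
    set j := pairHom hp (diagSL (-1 : ZMod p) (neg_ne_zero.2 one_ne_zero)) with hj
    have hjL : j ∈ L := pairHom_mem hp
      (fun c => ⟨smul_qunit_mem h2 h3 hP hsc c, smul_qunit_mem h2 h3 hP htc c⟩) _
    have hj2 : j * j = 1 := by
      rw [hj, ← map_mul]
      convert map_one (pairHom hp)
      apply Subtype.ext
      rw [Matrix.SpecialLinearGroup.coe_mul]
      simp [diagSL, Matrix.one_fin_two]
    have hj1 : j ≠ 1 := by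
      intro h0
      have h0' : ((j : GLM) : EndM) * s = s := by rw [h0, Units.val_one, one_mul]
      rw [hj, coe_pairHom_diag, add_mul, add_mul, one_mul, smul_mul_assoc, smul_mul_assoc, hp.xyx,
        mul_assoc t s s, hp.xx, mul_zero, smul_zero, add_zero, add_eq_left, smul_eq_zero] at h0'
      refine h0'.elim (fun h => h2 ?_) hs.ne_zero
      linear_combination -h
    have hord : orderOf j = 2 := orderOf_eq_prime (by rw [pow_two, hj2]) hj1
    have h2G : 2 ∣ Nat.card G := hord ▸ Subgroup.orderOf_dvd_natCard G (compGroup_le s hjL)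
    exact Nat.coprime_two_right.1 (hcop.coprime_dvd_right h2G)
  have hAsol : Group.IsSolvable A := Cfsg.Agent.S0205.result hAodd
  -- the stabilizer of the component
  let A1 : Subgroup GLM :=
    { carrier := {α | α ∈ A ∧ Conn G s (cc α s)}
      one_mem' := ⟨one_mem A, by rw [cc_one]; exact conn_refl s⟩
      mul_mem' := fun {α β} ha hb => ⟨mul_mem ha.1 hb.1, by
        rw [cc_mul]; exact ha.2.trans (conn_cc (hA ha.1) hb.2)⟩
      inv_mem' := fun {α} ha => ⟨inv_mem ha.1, by
        have := conn_cc (hA (inv_mem ha.1)) ha.2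
        rw [cc_inv_cc] at this
        exact this.symm⟩ }
  have hA1A : A1 ≤ A := fun α h => h.1
  have hA1L : A1 ≤ Subgroup.normalizer (L : Set GLM) := by
    intro α hα
    refine Subgroup.mem_normalizer_fintype fun v hv => ?_
    simp only [SetLike.mem_coe] at hv ⊢
    induction hv using Subgroup.closure_induction with
    | mem v hv =>
      obtain ⟨w, hw, rfl⟩ := hv
      rw [conj_qunit hw.1.sq]
      exact qunit_mem_compGroup ⟨minQ_cc (hA hα.1) hw.1, hα.2.trans (conn_cc (hA hα.1) hw.2)⟩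
    | one => simp
    | mul v w _ _ hv hw =>
      rw [show α * (v * w) * α⁻¹ = α * v * α⁻¹ * (α * w * α⁻¹) by group]
      exact mul_mem hv hw
    | inv v _ hv =>
      rw [show α * v⁻¹ * α⁻¹ = (α * v * α⁻¹)⁻¹ by group]
      exact inv_mem hv
  set T : Subgroup GLM := Subgroup.centralizer ({qunit s, qunit t} : Set GLM) with hT
  have hTiff : ∀ g : GLM, g ∈ T ↔ cc g s = s ∧ cc g t = t := by
    intro g
    rw [hT, Subgroup.mem_centralizer_iff]
    constructor
    · intro h
      exact ⟨conj_eq_self hp.xx (h _ (Or.inl rfl)).symm, conj_eq_self hp.yy (h _ (Or.inr rfl)).symm⟩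
    · rintro ⟨e1, e2⟩ _ (rfl | rfl)
      · rw [← mul_inv_eq_iff_eq_mul.1 ((conj_qunit hp.xx g).trans (by rw [e1]))]
      · rw [← mul_inv_eq_iff_eq_mul.1 ((conj_qunit hp.yy g).trans (by rw [e2]))]
  have hsup : T ⊓ (A1 ⊔ L) ⊔ L = A1 ⊔ L := by
    refine le_antisymm (sup_le inf_le_right le_sup_right) (sup_le (fun α hα => ?_) le_sup_right)
    have hodd : Odd (orderOf α) := hAodd.of_dvd_nat (Subgroup.orderOf_dvd_natCard A hα.1)
    obtain ⟨g, hg, e1, e2⟩ := exists_conj_pair h2 h3 hP h3' hs htm hp (hA hα.1) hodd hα.2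
    rw [show α = g * (g⁻¹ * α) by group]
    refine mul_mem (Subgroup.mem_sup_right hg) (Subgroup.mem_sup_left ⟨?_, ?_⟩)
    · exact (hTiff _).2 ⟨by rw [cc_mul, ← e1, cc_inv_cc], by rw [cc_mul, ← e2, cc_inv_cc]⟩
    · exact mul_mem (Subgroup.mem_sup_right (inv_mem hg)) (Subgroup.mem_sup_left hα)
  have hcop1 : (Nat.card A1).Coprime (Nat.card L) :=
    (hcop.coprime_dvd_left (Subgroup.card_dvd_of_le hA1A)).coprime_dvd_right
      (Subgroup.card_dvd_of_le (compGroup_le s))
  have hA1sol : Group.IsSolvable A1 :=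
    solvable_of_solvable_injective (Subgroup.inclusion_injective hA1A)
  obtain ⟨g0, hg0, hfix⟩ := Coprime.exists_le_conj hA1L hcop1 (Or.inl hA1sol) inf_le_right hsup
  set x := cc g0 s with hx
  set y := cc g0 t with hy
  have hpxy : Pair2 x y := hp.cc g0
  have hxc : x ∈ comp G s := cc_mem_comp h2 h3 hP hg0 hsc
  have hyc : y ∈ comp G s := cc_mem_comp h2 h3 hP hg0 htc
  have hA1fix : ∀ α ∈ A1, cc α x = x ∧ cc α y = y := by
    intro α hα
    obtain ⟨e1, e2⟩ := (hTiff _).1 (Coprime.mem_conj_smul.1 (hfix hα)).1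
    constructor
    · calc cc α x = cc g0 (cc (g0⁻¹ * α * g0) s) := by
            rw [hx, ← cc_mul, ← cc_mul]; congr 1; group
        _ = x := by rw [e1]
    · calc cc α y = cc g0 (cc (g0⁻¹ * α * g0) t) := by
            rw [hy, ← cc_mul, ← cc_mul]; congr 1; group
        _ = y := by rw [e2]
  set φ0 := pairHom hpxy with hφ0
  have hφ0fix : ∀ α ∈ A1, ∀ g, α * φ0 g * α⁻¹ = φ0 g := by
    intro α hα g
    apply Units.ext
    rw [hφ0, pairHom_cc, coe_pairHom, coe_pairHom, (hA1fix α hα).1, (hA1fix α hα).2]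
  -- one factor for each component
  let Q := A ⧸ A1.subgroupOf A
  haveI : Fintype Q := Fintype.ofFinite Q
  let ψ : Q → (Matrix.SpecialLinearGroup (Fin 2) (ZMod p) →* GLM) := fun q =>
    (MulAut.conj ((q.out : A) : GLM)).toMonoidHom.comp φ0
  have hψ : ∀ (q : Q) (α : A), (α : A ⧸ A1.subgroupOf A) = q → ∀ g,
      ψ q g = (α : GLM) * φ0 g * (α : GLM)⁻¹ := by
    intro q α he g
    have hβ : (α : GLM)⁻¹ * ((q.out : A) : GLM) ∈ A1 := by
      have h := QuotientGroup.eq.1 (he.trans q.out_eq.symm)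
      exact h
    calc ψ q g = ((q.out : A) : GLM) * φ0 g * ((q.out : A) : GLM)⁻¹ := rfl
      _ = (α : GLM) * ((α : GLM)⁻¹ * ((q.out : A) : GLM) * φ0 g *
            ((α : GLM)⁻¹ * ((q.out : A) : GLM))⁻¹) * (α : GLM)⁻¹ := by group
      _ = _ := by rw [hφ0fix _ hβ]
  have hψmem : ∀ (q : Q) g, ψ q g ∈ compGroup G (cc ((q.out : A) : GLM) s) := by
    intro q g
    show ((q.out : A) : GLM) * φ0 g * ((q.out : A) : GLM)⁻¹ ∈ _
    rw [hφ0, pairHom_cc]
    have hn := hA (q.out : A).2
    exact pairHom_mem _ (fun c => ⟨smul_qunit_mem h2 h3 hP (mem_comp_cc hn hxc) c,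
      smul_qunit_mem h2 h3 hP (mem_comp_cc hn hyc) c⟩) g
  have hne : ∀ q q' : Q, q ≠ q' →
      ¬ Conn G (cc ((q.out : A) : GLM) s) (cc ((q'.out : A) : GLM) s) := by
    intro q q' hqq hc
    apply hqq
    rw [← q.out_eq, ← q'.out_eq]
    refine QuotientGroup.eq.2 ?_
    have := conn_cc (hA (inv_mem (q.out : A).2)) hc
    rw [cc_inv_cc, ← cc_mul] at this
    exact ⟨(q.out⁻¹ * q'.out : A).2, this⟩
  have hcomm : Pairwise fun q q' => ∀ g g', Commute (ψ q g) (ψ q' g') := by
    intro q q' hqq g g'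
    exact commutator_eq_bot_iff_forall.1 (commutator_compGroup h2 h3 hP (hne q q' hqq))
      _ (hψmem q g) _ (hψmem q' g')
  let Ψ := MonoidHom.noncommPiCoprod ψ hcomm
  let diag : Matrix.SpecialLinearGroup (Fin 2) (ZMod p) →*
      (Q → Matrix.SpecialLinearGroup (Fin 2) (ZMod p)) := MonoidHom.pi fun _ => MonoidHom.id _
  refine ⟨Ψ.comp diag, fun g => ⟨?_, ?_⟩, ?_⟩
  · refine (Subgroup.pi_mem_of_mulSingle_mem (H := G.comap Ψ) (diag g) fun q => ?_)
    rw [Subgroup.mem_comap, MonoidHom.noncommPiCoprod_mulSingle]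
    exact compGroup_le _ (hψmem q _)
  · intro α hα
    let σ : (Q → Matrix.SpecialLinearGroup (Fin 2) (ZMod p)) →*
        (Q → Matrix.SpecialLinearGroup (Fin 2) (ZMod p)) :=
      MonoidHom.pi fun q => Pi.evalMonoidHom _ ((⟨α, hα⟩ : A)⁻¹ • q)
    have heq : (MulAut.conj α).toMonoidHom.comp Ψ = Ψ.comp σ := by
      refine MonoidHom.ext fun f => ?_
      refine (Subgroup.pi_mem_of_mulSingle_mem
        (H := ((MulAut.conj α).toMonoidHom.comp Ψ).eqLocus (Ψ.comp σ)) f fun q => ?_)
      show α * Ψ _ * α⁻¹ = Ψ (σ _)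
      have hσ : σ (Pi.mulSingle q (f q)) = Pi.mulSingle ((⟨α, hα⟩ : A) • q) (f q) := by
        funext r
        show (Pi.mulSingle q (f q) : Q → _) ((⟨α, hα⟩ : A)⁻¹ • r) = _
        simp only [Pi.mulSingle_apply, inv_smul_eq_iff]
      rw [hσ, MonoidHom.noncommPiCoprod_mulSingle, MonoidHom.noncommPiCoprod_mulSingle]
      have he : ((⟨α, hα⟩ * q.out : A) : A ⧸ A1.subgroupOf A) = (⟨α, hα⟩ : A) • q := by
        conv_rhs => rw [← q.out_eq]
        rfl
      rw [hψ _ _ he, hψ q q.out q.out_eq, Subgroup.coe_mul]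
      group
    have h := DFunLike.congr_fun heq (diag g)
    have hσd : σ (diag g) = diag g := rfl
    rw [MonoidHom.comp_apply Ψ σ, hσd] at h
    exact mul_inv_eq_iff_eq_mul.1 h
  · intro h1
    set q0 : Q := ((1 : A) : A ⧸ A1.subgroupOf A) with hq0
    have hψ0 : ∀ g, ψ q0 g = φ0 g := fun g => by rw [hψ q0 1 rfl g]; simp
    have hm : Pi.mulSingle q0 (uu 1) ∈ (Subgroup.centralizer {φ0 (vv (1 : ZMod p))}).comap Ψ := by
      have hf : (Pi.mulSingle q0 (uu 1))⁻¹ * diag (uu 1) ∈
          (Subgroup.centralizer {φ0 (vv (1 : ZMod p))}).comap Ψ := by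
        refine Subgroup.pi_mem_of_mulSingle_mem _ fun q => ?_
        rw [Subgroup.mem_comap, MonoidHom.noncommPiCoprod_mulSingle,
          Subgroup.mem_centralizer_singleton_iff, Pi.mul_apply, Pi.inv_apply]
        rcases eq_or_ne q q0 with rfl | hq
        · rw [Pi.mulSingle_eq_same, show diag (uu (1 : ZMod p)) q0 = uu 1 from rfl, inv_mul_cancel,
            map_one, one_mul, mul_one]
        · rw [← hψ0]
          exact hcomm hq _ _
      rw [Subgroup.mem_comap, map_mul, show Ψ (diag (uu 1)) = 1 from h1, mul_one, map_inv,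
        inv_mem_iff] at hf
      exact hf
    rw [Subgroup.mem_comap, MonoidHom.noncommPiCoprod_mulSingle, hψ0,
      Subgroup.mem_centralizer_singleton_iff, hφ0, pairHom_uu, pairHom_vv, one_smul, one_smul,
      qunit_commute_iff hpxy.xx hpxy.yy] at hm
    refine (minQ_cc (le_normalizer_self (compGroup_le s hg0)) hs).ne_zero ?_
    show x = 0
    rw [← hpxy.xyx, mul_assoc, ← hm, ← mul_assoc, hpxy.xx, zero_mul]

end Cfsg.Agent.FixedQuad
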