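import Cfsg.Agent.FixedQuad.Core
import Cfsg.Agent.FixedQuad.SL2
import Cfsg.Agent.FixedQuad.Action
import Cfsg.Agent.H4.ZJ
import Cfsg.Agent.LocalP.QdStable

/-!
`p ≥ 5`: if the fixed points of a coprime action involve no `PSL₂(p)`, then quadratic elements on
invariant normal `p`-subgroups are `p`-stable.
-/

set_option autoImplicit false
set_option linter.style.haveILetI false
set_option linter.unusedSectionVars false

namespace Cfsg.Agent.FixedQuad

open Subgroup Cfsg.Agent.RootSub Cfsg.Agent.RootSub.QP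
open scoped commutatorElement

universe u v w

variable {A : Type u} [Group A] {p : ℕ} [Fact p.Prime]

section Module

variable {V : Type v} [CommGroup V] [Module (ZMod p) (Additive V)]

/-- Automorphisms of an elementary abelian group as linear maps. -/
def addGL : MulAut V →* LinearMap.GeneralLinearGroup (ZMod p) (Additive V) :=
  MonoidHom.toHomUnits
    { toFun := fun e => (MonoidHom.toAdditive e.toMonoidHom).toZModLinearMap p
      map_one' := LinearMap.ext fun _ => rfl
      map_mul' := fun _ _ => LinearMap.ext fun _ => rfl }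

theorem addGL_apply (e : MulAut V) (v : V) :
    ((addGL (p := p) e : LinearMap.GeneralLinearGroup (ZMod p) (Additive V)) :
      Additive V →ₗ[ZMod p] Additive V) (Additive.ofMul v) = Additive.ofMul (e v) := rfl

/-- The action of a linear map on the group. -/
def glApp (g : LinearMap.GeneralLinearGroup (ZMod p) (Additive V)) (v : V) : V :=
  Additive.toMul ((g : Additive V →ₗ[ZMod p] Additive V) (Additive.ofMul v))

theorem addGL_injective : Function.Injective (addGL (p := p) (V := V)) := by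
  intro e e' h
  refine MulEquiv.ext fun v => Additive.ofMul.injective ?_
  rw [← addGL_apply (p := p), ← addGL_apply (p := p), h]

end Module

variable {H : Type v} [Group H]

/-- The action restricted to an invariant subgroup. -/
def restrAct (α : A →* MulAut H) (V : Subgroup H) (hV : Invar α V) : A →* MulAut V where
  toFun a :=
    { toFun := fun v => ⟨α a v, hV a v v.2⟩
      invFun := fun v => ⟨α a⁻¹ v, hV a⁻¹ v v.2⟩
      left_inv := fun v => Subtype.ext (by simp)
      right_inv := fun v => Subtype.ext (by simp)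
      map_mul' := fun v w => Subtype.ext (map_mul _ _ _) }
  map_one' := MulEquiv.ext fun v => Subtype.ext (by simp)
  map_mul' a b := MulEquiv.ext fun v => Subtype.ext (by simp)

theorem minimal_elementary [Finite H] {α : A →* MulAut H} {V : Subgroup H} [V.Normal]
    (hVi : Invar α V) (hVp : IsPGroup p V) (hne : V ≠ ⊥)
    (hmin : ∀ W : Subgroup H, W.Normal → Invar α W → W ≤ V → W ≠ ⊥ → W = V) :
    (∀ v ∈ V, ∀ w ∈ V, v * w = w * v) ∧ ∀ v ∈ V, v ^ p = 1 := by
  let W : Subgroup H :=
    { carrier := {v | v ∈ V ∧ (∀ w ∈ V, v * w = w * v) ∧ v ^ p = 1}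
      one_mem' := ⟨one_mem V, fun w _ => by simp, one_pow p⟩
      mul_mem' := by
        rintro a b ⟨a1, a2, a3⟩ ⟨b1, b2, b3⟩
        refine ⟨mul_mem a1 b1, fun w hw => ?_, ?_⟩
        · rw [mul_assoc, b2 w hw, ← mul_assoc, a2 w hw, mul_assoc]
        · rw [(show Commute a b from a2 b b1).mul_pow, a3, b3, one_mul]
      inv_mem' := by
        rintro a ⟨a1, a2, a3⟩
        exact ⟨inv_mem a1, fun w hw => (show Commute a w from a2 w hw).inv_left,
          by rw [inv_pow, a3, inv_one]⟩ }
  have hWV : W ≤ V := fun v hv => hv.1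
  have hWn : W.Normal := by
    refine ⟨fun v ⟨h1, h2, h3⟩ g => ⟨Normal.conj_mem ‹_› v h1 g, fun w hw => ?_, ?_⟩⟩
    · have hw' : g⁻¹ * w * g ∈ V := by simpa using Normal.conj_mem ‹V.Normal› w hw g⁻¹
      calc g * v * g⁻¹ * w = g * (v * (g⁻¹ * w * g)) * g⁻¹ := by group
        _ = g * ((g⁻¹ * w * g) * v) * g⁻¹ := by rw [h2 _ hw']
        _ = w * (g * v * g⁻¹) := by group
    · rw [conj_pow, h3, mul_one, mul_inv_cancel]
  have hWi : Invar α W := by
    rintro a v ⟨h1, h2, h3⟩
    refine ⟨hVi a v h1, fun w hw => ?_, by rw [← map_pow, h3, map_one]⟩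
    have hw' := hVi a⁻¹ w hw
    have := congrArg (α a) (h2 _ hw')
    simpa using this
  have hWne : W ≠ ⊥ := by
    haveI : Nontrivial V := (nontrivial_iff_ne_bot V).2 hne
    haveI := hVp.center_nontrivial
    have hd : p ∣ Nat.card (center V) := by
      obtain ⟨n, hn⟩ := IsPGroup.iff_card.1 (hVp.to_subgroup (center V))
      have h1 : 1 < Nat.card (center V) := Finite.one_lt_card
      rw [hn] at h1 ⊢
      exact dvd_pow_self p (by rintro rfl; simp at h1)
    obtain ⟨z, hz⟩ := exists_prime_orderOf_dvd_card' p hd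
    intro h0
    have hzW : ((z : V) : H) ∈ W := by
      refine ⟨(z : V).2, fun w hw => ?_, ?_⟩
      · exact congrArg Subtype.val (mem_center_iff.1 z.2 ⟨w, hw⟩).symm
      · have := pow_orderOf_eq_one z
        rw [hz] at this
        exact congrArg (fun x : center V => ((x : V) : H)) this
    rw [h0, mem_bot] at hzW
    have : z = 1 := Subtype.ext (Subtype.ext hzW)
    rw [this, orderOf_one] at hz
    exact (Fact.out : p.Prime).one_lt.ne hz
  have hWeq := hmin W hWn hWi hWV hWne
  exact ⟨fun v hv => (hWeq.ge hv).2.1, fun v hv => (hWeq.ge hv).2.2⟩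

variable {F : Type w} [Field F] [Fintype F]

section ModuleCase

variable {V : Type v} [CommGroup V] [Module (ZMod p) (Additive V)] [Finite V] [Nontrivial V]

local notation "GLV" => LinearMap.GeneralLinearGroup (ZMod p) (Additive V)

theorem glApp_addGL (e : MulAut V) (v : V) : glApp (p := p) (addGL e) v = e v := rfl

theorem glApp_mul (g g' : GLV) (v : V) : glApp (g * g') v = glApp g (glApp g' v) := rfl

theorem glApp_map_mul (g : GLV) (v w : V) : glApp g (v * w) = glApp g v * glApp g w := by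
  apply Additive.ofMul.injective
  exact map_add (g : Additive V →ₗ[ZMod p] Additive V) _ _

theorem glApp_map_one (g : GLV) : glApp g (1 : V) = 1 := by
  apply Additive.ofMul.injective
  exact map_zero (g : Additive V →ₗ[ZMod p] Additive V)

theorem glApp_map_inv (g : GLV) (v : V) : glApp g v⁻¹ = (glApp g v)⁻¹ := by
  apply Additive.ofMul.injective
  exact map_neg (g : Additive V →ₗ[ZMod p] Additive V) _

theorem glApp_ext {g g' : GLV} (h : ∀ v, glApp g v = glApp g' v) : g = g' :=
  Units.ext (LinearMap.ext fun m => Additive.toMul.injective (h (Additive.toMul m)))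

theorem prime_dvd_card_additive : p ∣ Nat.card (Additive V) := by
  obtain ⟨v, hv⟩ := exists_ne (0 : Additive V)
  have h0 : p • v = 0 := by
    rw [← Nat.cast_smul_eq_nsmul (ZMod p), ZMod.natCast_self, zero_smul]
  rw [← addOrderOf_eq_prime h0 hv]
  exact addOrderOf_dvd_natCard v

/-- An element quadratic in an irreducible action of `H` extended by `A` acts trivially. -/
theorem quad_trivial [Finite A] [Finite H] (hp5 : 5 ≤ p) (hF : Fintype.card F = p)
    (α : A →* MulAut H) (hcop : (Nat.card A).Coprime (Nat.card H))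
    (hfree : ¬ Cfsg.Involves (Matrix.ProjectiveSpecialLinearGroup (Fin 2) F) (fixSub α))
    (c : H →* MulAut V) (r : A →* MulAut V) (hrel : ∀ b h, r b * c h * (r b)⁻¹ = c (α b h))
    (hirr : ∀ W : Subgroup V, (∀ h, ∀ v ∈ W, c h v ∈ W) → (∀ b, ∀ v ∈ W, r b v ∈ W) →
      W = ⊥ ∨ W = ⊤)
    {a : H} (hq : ∀ v, c a (c a v * v⁻¹) = c a v * v⁻¹) : c a = 1 := by
  by_contra ha
  set ρH : H →* GLV := (addGL (p := p) (V := V)).comp c with hρH
  set ρA : A →* GLV := (addGL (p := p) (V := V)).comp r with hρA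
  have ha1 : ρH a ≠ 1 := fun h => ha (addGL_injective (p := p) (h.trans (map_one _).symm))
  have hrel' : ∀ b h, ρA b * ρH h * (ρA b)⁻¹ = ρH (α b h) := by
    intro b h
    simp only [hρA, hρH, MonoidHom.comp_apply, ← map_mul, ← map_inv (addGL (p := p) (V := V)), hrel]
  haveI : Finite (Additive V) := Finite.of_equiv V Additive.ofMul
  haveI : Finite (Additive V →ₗ[ZMod p] Additive V) := Finite.of_injective _ DFunLike.coe_injective
  haveI : Finite GLV := Finite.of_injective _ Units.val_injective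
  set X := ρH.range with hX
  have hAX : ρA.range ≤ normalizer (X : Set GLV) := by
    rintro _ ⟨b, rfl⟩
    refine mem_normalizer_fintype ?_
    rintro _ ⟨h, rfl⟩
    exact ⟨α b h, (hrel' b h).symm⟩
  set O := (Cfsg.pCore p X).map X.subtype with hO
  have hOX : O ≤ X := map_subtype_le _
  have hOp : IsPGroup p O := (Cores.pCore_isPGroup (p := p) (G := X)).map _
  have hOnorm : ∀ g ∈ X, ∀ o ∈ O, g * o * g⁻¹ ∈ O := by
    rintro g hg _ ⟨o, ho, rfl⟩
    exact ⟨⟨g, hg⟩ * o * ⟨g, hg⟩⁻¹, (inferInstance : (Cfsg.pCore p X).Normal).conj_mem o ho _, rfl⟩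
  have hOmax : ∀ N : Subgroup GLV, N ≤ X → IsPGroup p N →
      (∀ g ∈ X, ∀ o ∈ N, g * o * g⁻¹ ∈ N) → N ≤ O := by
    intro N hN hNp hNn
    rw [← map_subgroupOf_eq_of_le hN]
    refine map_mono (Cores.le_pCore ⟨fun o ho g => hNn g g.2 o ho⟩ ?_)
    exact hNp.of_equiv (subgroupOfEquivOfLe hN).symm
  have hObot : O = ⊥ := by
    have hOA : ∀ b, ∀ o ∈ O, ρA b * o * (ρA b)⁻¹ ∈ O := by
      intro b o ho
      refine hOmax (O.map (MulAut.conj (ρA b)).toMonoidHom) ?_ (hOp.map _) ?_ ⟨o, ho, rfl⟩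
      · rintro _ ⟨o', ho', rfl⟩
        exact (mem_normalizer_iff.1 (hAX ⟨b, rfl⟩) o').1 (hOX ho')
      · rintro g hg _ ⟨o', ho', rfl⟩
        refine ⟨(ρA b)⁻¹ * g * ρA b * o' * ((ρA b)⁻¹ * g * ρA b)⁻¹,
          hOnorm _ ((mem_normalizer_iff''.1 (hAX ⟨b, rfl⟩) g).1 hg) o' ho', ?_⟩
        show ρA b * _ * (ρA b)⁻¹ = g * (ρA b * o' * (ρA b)⁻¹) * g⁻¹
        group
    let W : Subgroup V :=
      { carrier := {v | ∀ o ∈ O, glApp o v = v}
        one_mem' := fun o _ => glApp_map_one o
        mul_mem' := fun {v w} hv hw o ho => by rw [glApp_map_mul, hv o ho, hw o ho]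
        inv_mem' := fun {v} hv o ho => by rw [glApp_map_inv, hv o ho] }
    have hstab : ∀ g : GLV, (∀ o ∈ O, g⁻¹ * o * g ∈ O) → ∀ v ∈ W, glApp g v ∈ W := by
      intro g hg v hv o ho
      have e := congrArg (glApp g) (hv _ (hg o ho))
      rw [← glApp_mul, show g * (g⁻¹ * o * g) = o * g by group, glApp_mul] at e
      exact e
    rcases hirr W
        (fun h v hv => hstab (ρH h) (fun o ho => by
          have := hOnorm (ρH h⁻¹) ⟨h⁻¹, rfl⟩ o ho
          rwa [map_inv, inv_inv] at this) v hv)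
        (fun b v hv => hstab (ρA b) (fun o ho => by
          have := hOA b⁻¹ o ho
          rwa [map_inv, inv_inv] at this) v hv) with h0 | h0
    · exfalso
      obtain ⟨m, hm, hm0⟩ := hOp.exists_fixed_point_of_prime_dvd_card_of_fixed_point (Additive V)
        prime_dvd_card_additive (a := 0) (fun o => map_zero _)
      have hmW : Additive.toMul m ∈ W := fun o ho => congrArg Additive.toMul (hm ⟨o, ho⟩)
      rw [h0, mem_bot] at hmW
      exact hm0 (Additive.toMul.injective hmW.symm)
    · refine eq_bot_iff.2 fun o ho => mem_bot.2 (glApp_ext fun v => ?_)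
      exact (h0.ge (mem_top v) : v ∈ W) o ho
  have hcore : ∀ N : Subgroup GLV, N ≤ X → IsPGroup p N → (∀ g ∈ X, ∀ h ∈ N, g⁻¹ * h * g ∈ N) →
      N = ⊥ := by
    intro N hN hNp hNn
    refine eq_bot_iff.2 ((hOmax N hN hNp fun g hg o ho => ?_).trans hObot.le)
    simpa using hNn g⁻¹ (inv_mem hg) o ho
  have hquad : devMap (ρH a) * devMap (ρH a) = 0 := by
    refine LinearMap.ext fun m => ?_
    rw [Module.End.mul_apply, LinearMap.zero_apply, devMap_apply (ρH a) (devMap (ρH a) m),
      sub_eq_zero, devMap_apply, sub_eq_add_neg]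
    exact congrArg Additive.ofMul (hq (Additive.toMul m))
  have hcop' : (Nat.card ρA.range).Coprime (Nat.card X) :=
    (hcop.coprime_dvd_left (card_range_dvd ρA)).coprime_dvd_right (card_range_dvd ρH)
  obtain ⟨φ, hφ, hφ1⟩ := exists_fixed_sl2 hp5 X ρA.range hAX hcop' hcore ⟨a, rfl⟩ ha1 hquad
  refine hfree (involves_psl hp5 (ρH.comp (fixSub α).subtype) φ (fun g => ?_) hφ1 hF)
  obtain ⟨⟨h, hh⟩, hfix⟩ := hφ g
  have hker : Invar α ρH.ker := by
    intro b k hk
    rw [MonoidHom.mem_ker] at hk ⊢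
    rw [← hrel', hk, mul_one, mul_inv_cancel]
  obtain ⟨d, hd, hdk⟩ := exists_fixed_lift α hcop hker (h := h) fun b => by
    rw [MonoidHom.mem_ker, map_mul, map_inv, ← hrel', hh, hfix _ ⟨b, rfl⟩, mul_inv_cancel_right,
      inv_mul_cancel]
  refine ⟨⟨d, hd⟩, ?_⟩
  rw [MonoidHom.mem_ker, map_mul, map_inv, inv_mul_eq_one] at hdk
  exact hdk.symm.trans hh

end ModuleCase

/-- Quadratic elements centralise a minimal invariant normal subgroup. -/
theorem mem_centralizer_of_minimal [Finite A] [Finite H] (hp5 : 5 ≤ p) (hF : Fintype.card F = p)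
    (α : A →* MulAut H) (hcop : (Nat.card A).Coprime (Nat.card H))
    (hfree : ¬ Cfsg.Involves (Matrix.ProjectiveSpecialLinearGroup (Fin 2) F) (fixSub α))
    {V : Subgroup H} [V.Normal] (hVi : Invar α V) (hne : V ≠ ⊥)
    (hmin : ∀ W : Subgroup H, W.Normal → Invar α W → W ≤ V → W ≠ ⊥ → W = V)
    (hcomm : ∀ v ∈ V, ∀ w ∈ V, v * w = w * v) (hexp : ∀ v ∈ V, v ^ p = 1)
    {a : H} (hq : ∀ v ∈ V, Commute a (a * v * a⁻¹ * v⁻¹)) : a ∈ centralizer (V : Set H) := by
  letI : CommGroup V :=
    { (inferInstance : Group V) with mul_comm := fun v w => Subtype.ext (hcomm v v.2 w w.2) }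
  have hexp' : ∀ x : Additive V, p • x = 0 := fun x =>
    Additive.toMul.injective (Subtype.ext (hexp _ (Additive.toMul x).2))
  letI : Module (ZMod p) (Additive V) := AddCommGroup.zmodModule hexp'
  haveI : Nontrivial V := (nontrivial_iff_ne_bot V).2 hne
  have hrel : ∀ b h, restrAct α V hVi b * MulAut.conjNormal h * (restrAct α V hVi b)⁻¹ =
      MulAut.conjNormal (α b h) := by
    intro b h
    rw [← map_inv]
    refine MulEquiv.ext fun v => Subtype.ext ?_
    show α b (h * α b⁻¹ v * h⁻¹) = α b h * v * (α b h)⁻¹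
    simp
  have hirr : ∀ W : Subgroup V, (∀ h : H, ∀ v ∈ W, MulAut.conjNormal h v ∈ W) →
      (∀ b, ∀ v ∈ W, restrAct α V hVi b v ∈ W) → W = ⊥ ∨ W = ⊤ := by
    intro W h1 h2
    rcases eq_or_ne W ⊥ with h0 | h0
    · exact Or.inl h0
    · refine Or.inr (map_injective V.subtype_injective ?_)
      rw [← MonoidHom.range_eq_map, range_subtype]
      refine hmin _ ⟨?_⟩ ?_ (map_subtype_le W) ?_
      · rintro _ ⟨v, hv, rfl⟩ g
        exact ⟨MulAut.conjNormal g v, h1 g v hv, MulAut.conjNormal_apply g v⟩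
      · rintro b _ ⟨v, hv, rfl⟩
        exact ⟨restrAct α V hVi b v, h2 b v hv, rfl⟩
      · rwa [Ne, map_eq_bot_iff_of_injective _ V.subtype_injective]
  have h := quad_trivial hp5 hF α hcop hfree MulAut.conjNormal (restrAct α V hVi) hrel hirr (a := a)
    fun v => Subtype.ext (show a * (a * v * a⁻¹ * (v : H)⁻¹) * a⁻¹ = a * v * a⁻¹ * (v : H)⁻¹ by
      rw [(hq v v.2).eq, mul_inv_cancel_right])
  rw [mem_centralizer_iff]
  intro v hv
  have h' : a * v * a⁻¹ = v := congrArg (fun e : MulAut V => ((e ⟨v, hv⟩ : V) : H)) h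
  exact (mul_inv_eq_iff_eq_mul.1 h').symm

theorem involves_of_quot [Finite A] [Finite H] (α : A →* MulAut H)
    (hcop : (Nat.card A).Coprime (Nat.card H)) (N : Subgroup H) [N.Normal] (hN : Invar α N)
    {Y : Type w} [Group Y] (h : Cfsg.Involves Y (fixSub (quotAct α N hN))) :
    Cfsg.Involves Y (fixSub α) := by
  let f : fixSub α →* fixSub (quotAct α N hN) :=
    ((QuotientGroup.mk' N).comp (fixSub α).subtype).codRestrict _ fun c b => by
      rw [MonoidHom.comp_apply]
      exact congrArg (QuotientGroup.mk (s := N)) (c.2 b)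
  have hf : Function.Surjective f := by
    rintro ⟨x, hx⟩
    obtain ⟨c, hc, rfl⟩ := fix_quot_le α hcop N hN hx
    exact ⟨⟨c, hc⟩, rfl⟩
  obtain ⟨K, R, hR, ⟨e⟩⟩ := h
  exact Stability.section_comap f hf hR e

/-- The stability statement. -/
theorem mem_stabCore [Finite A] (hp5 : 5 ≤ p) (hF : Fintype.card F = p) :
    ∀ (H : Type v) [Group H] [Finite H] (α : A →* MulAut H),
      (Nat.card A).Coprime (Nat.card H) →
      ¬ Cfsg.Involves (Matrix.ProjectiveSpecialLinearGroup (Fin 2) F) (fixSub α) →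
      ∀ (B : Subgroup H) [B.Normal], Invar α B → IsPGroup p B → ∀ a : H,
        (∀ β ∈ B, Commute a (a * β * a⁻¹ * β⁻¹)) → a ∈ H4.stabCore p B := by
  suffices h : ∀ (n : ℕ) (H : Type v) [Group H] [Finite H] (α : A →* MulAut H), Nat.card H = n →
      (Nat.card A).Coprime (Nat.card H) →
      ¬ Cfsg.Involves (Matrix.ProjectiveSpecialLinearGroup (Fin 2) F) (fixSub α) →
      ∀ (B : Subgroup H) [B.Normal], Invar α B → IsPGroup p B → ∀ a : H,
        (∀ β ∈ B, Commute a (a * β * a⁻¹ * β⁻¹)) → a ∈ H4.stabCore p B from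
    fun H _ _ α => h _ H α rfl
  intro n
  induction n using Nat.strong_induction_on with
  | _ n ih =>
  intro H _ _ α hn hcop hfree B _ hBi hBp a hq
  subst hn
  rcases eq_or_ne B ⊥ with rfl | hB
  · refine H4.centralizer_le_stabCore _ ?_
    rw [mem_centralizer_iff]
    intro x hx
    rw [SetLike.mem_coe, mem_bot] at hx
    rw [hx, one_mul, mul_one]
  obtain ⟨V, ⟨hVn, hVi, hVB, hVne⟩, hVmin⟩ := Set.exists_min_image
    {W : Subgroup H | W.Normal ∧ Invar α W ∧ W ≤ B ∧ W ≠ ⊥} (fun W => Nat.card W)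
    (Set.toFinite _) ⟨B, inferInstance, hBi, le_rfl, hB⟩
  haveI := hVn
  have hmin : ∀ W : Subgroup H, W.Normal → Invar α W → W ≤ V → W ≠ ⊥ → W = V :=
    fun W h1 h2 h3 h4 => Subgroup.eq_of_le_of_card_ge h3 (hVmin W ⟨h1, h2, h3.trans hVB, h4⟩)
  obtain ⟨hVc, hVe⟩ := minimal_elementary hVi (hBp.to_le hVB) hVne hmin
  have haV := mem_centralizer_of_minimal hp5 hF α hcop hfree hVi hVne hmin hVc hVe
    (fun v hv => hq v (hVB hv))
  set π := QuotientGroup.mk' V with hπ
  set α' := quotAct α V hVi with hα'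
  haveI hBn' : (B.map π).Normal := Normal.map ‹_› π (QuotientGroup.mk'_surjective V)
  have hlt : Nat.card (H ⧸ V) < Nat.card H := by
    rw [card_eq_card_quotient_mul_card_subgroup V]
    exact lt_mul_of_one_lt_right Nat.card_pos ((Subgroup.one_lt_card_iff_ne_bot V).2 hVne)
  have hsub := ih _ hlt (H ⧸ V) α' rfl
    (hcop.coprime_dvd_right (card_quotient_dvd_card V))
    (fun h => hfree (involves_of_quot α hcop V hVi h)) (B.map π)
    (fun b x hx => by
      obtain ⟨β, hβ, rfl⟩ := hx
      exact ⟨α b β, hBi b β hβ, rfl⟩)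
    (hBp.map π) (π a) (by
      rintro _ ⟨β, hβ, rfl⟩
      rw [← map_inv, ← map_inv, ← map_mul, ← map_mul, ← map_mul]
      exact (hq β hβ).map π)
  haveI := H4.stabCore_normal (p := p) (B.map π)
  refine H4.le_stabCore_of_series (V := V) hVe
    (M := (H4.stabCore p (B.map π)).comap π ⊓ centralizer (V : Set H)) inferInstance
    (fun g hg => ⟨0, by simpa using (Subgroup.mem_inf.1 hg).2⟩) (fun g hg => ?_) ⟨hsub, haV⟩
  obtain ⟨m, hm⟩ := H4.exists_pow_mem_centralizer (B := B.map π) (g := π g)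
    (Subgroup.mem_comap.1 (Subgroup.mem_inf.1 hg).1)
  refine ⟨m, fun β hβ => ?_⟩
  have h := mem_centralizer_iff.1 hm (π β) ⟨β, hβ, rfl⟩
  rw [← QuotientGroup.eq_one_iff]
  show π ⁅g ^ p ^ m, β⁆ = 1
  rw [map_commutatorElement, map_pow, commutatorElement_eq_one_iff_mul_comm]
  exact h.symm

end Cfsg.Agent.FixedQuad
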