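import Cfsg.Agent.FixedQuad.Stable
import Cfsg.Agent.Stability.ZJ
import Cfsg.Agent.EvenLocal.ZJClosed
import Cfsg.Agent.Tech.ZJControl
import Cfsg.Agent.CharTwo.Constrained

/-! The `ZJ` theorem needing stability only on invariant normal subgroups. -/

set_option autoImplicit false
set_option linter.style.haveILetI false
set_option linter.unusedSectionVars false

namespace Cfsg.Agent.FixedQuad

open Subgroup
open scoped commutatorElement Pointwise

universe u v

variable {A : Type u} [Group A] {G : Type v} [Group G] {p : ℕ}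

theorem Invar.inf {α : A →* MulAut G} {N K : Subgroup G} (hN : Invar α N) (hK : Invar α K) :
    Invar α (N ⊓ K) := fun a h hh => ⟨hN a h hh.1, hK a h hh.2⟩

theorem Invar.normalClosure {α : A →* MulAut G} {N : Subgroup G} (hN : Invar α N) :
    Invar α (Subgroup.normalClosure (N : Set G)) := fun a => by
  refine normalClosure_le_normal (N := (Subgroup.normalClosure (N : Set G)).comap (α a).toMonoidHom) ?_
  exact fun h hh => subset_normalClosure (hN a h hh)

theorem Invar.commutator {α : A →* MulAut G} {N K : Subgroup G} (hN : Invar α N) (hK : Invar α K) :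
    Invar α ⁅N, K⁆ := fun a => by
  show ⁅N, K⁆ ≤ ⁅N, K⁆.comap (α a).toMonoidHom
  refine Subgroup.commutator_le.2 fun x hx y hy => ?_
  rw [mem_comap, map_commutatorElement]
  exact commutator_mem_commutator (hN a x hx) (hK a y hy)

variable (F : Stability.ReplFamily p G) (α : A →* MulAut G)

/-- Glauberman's lemma: for a `p`-stable action, `B ⊓ Z(J(S))` is normal for normal `p`-subgroups
`B`. -/
theorem inf_normal [Finite G] [hp : Fact p.Prime] (hp2 : p ≠ 2)
    (hst : ∀ (P : Subgroup G) [P.Normal], Invar α P → IsPGroup p P → Cfsg.IsPStableOn p P)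
    (S : Sylow p G) (hZi : Invar α (sInf (F.mem (S : Subgroup G))))
    (B : Subgroup G) (hBn : B.Normal) (hBi : Invar α B) (hBp : IsPGroup p B) :
    (B ⊓ sInf (F.mem (S : Subgroup G))).Normal := by
  induction h : Nat.card B using Nat.strong_induction_on generalizing B with
  | _ n ih =>
  subst h
  haveI := hBn
  set Z := sInf (F.mem (S : Subgroup G)) with hZ
  have hBS : B ≤ S := (PSolv.le_pCore hBn hBp).trans (PSolv.pCore_le_sylow S)
  have hZS : Z ≤ S := F.sInf_le _
  have hSZ : (S : Subgroup G) ≤ normalizer (Z : Set G) :=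
    le_normalizer.trans (F.normalizer_le_normalizer_sInf _)
  set B₁ := normalClosure ((B ⊓ Z : Subgroup G) : Set G) with hB₁
  have hB₁B : B₁ ≤ B := normalClosure_le_normal inf_le_left
  rcases hB₁B.lt_or_eq with hlt | heq
  · have h1 := ih _ (Set.ncard_lt_ncard hlt (Set.toFinite _)) B₁ normalClosure_normal
      (hBi.inf hZi).normalClosure (hBp.to_le hB₁B) rfl
    rwa [show B₁ ⊓ Z = B ⊓ Z from le_antisymm (inf_le_inf_right _ hB₁B)
      (le_inf le_normalClosure inf_le_right)] at h1
  by_contra hnn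
  have hne : B ≠ ⊥ := by
    rintro rfl
    exact hnn (by rw [bot_inf_eq]; infer_instance)
  have hlt : ⁅B, B⁆ < B := by
    haveI : Nontrivial B := (nontrivial_iff_ne_bot B).2 hne
    haveI := hBp.isNilpotent
    have h1 : commutator ↥B < ⊤ := (Group.IsSolvable.commutator_lt_top_of_nontrivial (↥B))
    have h2 : (commutator ↥B).map B.subtype = ⁅B, B⁆ := by
      rw [_root_.commutator_def, map_commutator, ← MonoidHom.range_eq_map, range_subtype]
    rw [← h2]
    have h3 := (map_lt_map_iff_of_injective B.subtype_injective).2 h1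
    rwa [← MonoidHom.range_eq_map, range_subtype] at h3
  set W := ⁅B, B⁆ ⊓ Z with hW
  haveI hWn : W.Normal :=
    ih _ (Set.ncard_lt_ncard hlt (Set.toFinite _)) ⁅B, B⁆ inferInstance (hBi.commutator hBi)
    (hBp.to_le hlt.le) rfl
  have hderW : ⁅B, B⁆ ≤ W := by
    let K : Subgroup G :=
      (centralizer ((B.map (QuotientGroup.mk' W) : Subgroup (G ⧸ W)) : Set (G ⧸ W))).comap
        (QuotientGroup.mk' W)
    haveI : (B.map (QuotientGroup.mk' W)).Normal :=
      Normal.map hBn _ (QuotientGroup.mk'_surjective _)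
    haveI : K.Normal := Normal.comap inferInstance _
    have h0 : B₁ ≤ K := by
      refine normalClosure_le_normal fun z hz => ?_
      obtain ⟨hzB, hzZ⟩ := Subgroup.mem_inf.1 hz
      rw [SetLike.mem_coe, mem_comap, mem_centralizer_iff]
      rintro _ ⟨c, hc, rfl⟩
      rw [← commutatorElement_eq_one_iff_mul_comm, ← map_commutatorElement, ← MonoidHom.mem_ker,
        QuotientGroup.ker_mk', hW, Subgroup.mem_inf]
      refine ⟨commutator_mem_commutator hc hzB, ?_⟩
      rw [commutatorElement_def]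
      exact mul_mem ((mem_normalizer_iff.1 (hSZ (hBS hc)) z).1 hzZ) (inv_mem hzZ)
    rw [heq] at h0
    refine commutator_le.2 fun x hx y hy => ?_
    rw [← QuotientGroup.ker_mk' W, MonoidHom.mem_ker, map_commutatorElement,
      commutatorElement_eq_one_iff_mul_comm]
    exact (mem_centralizer_iff.1 (h0 hx) _ ⟨y, hy, rfl⟩).symm
  have hder : ⁅B, B⁆ ≤ Z := hderW.trans inf_le_right
  obtain ⟨U, hU, hBU⟩ : ∃ U ∈ F.mem (S : Subgroup G), ¬ B ≤ U := by
    by_contra! hcon
    exact hnn (by rw [inf_eq_left.2 (le_sInf hcon)]; exact hBn)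
  obtain ⟨A, hA, -, hBA, hnorm⟩ := F.exists_normalized hp2 S.2 le_rfl le_normalizer hBS
    (fun g _ => by rw [normalizer_eq_top]; trivial)
    ⟨U, hU, hder.trans (_root_.sInf_le hU), hBU⟩
  have hq : ∀ a ∈ A, ⁅⁅B, zpowers a⁆, zpowers a⁆ = ⊥ := by
    intro a ha
    refine le_bot_iff.1 ((commutator_mono (commutator_mono le_rfl (zpowers_le.2 ha))
      (zpowers_le.2 ha)).trans_eq ?_)
    refine commutator_eq_bot_iff_le_centralizer.2 (le_trans ?_ (Modules.comm_le_centralizer (F.comm' hA)))
    rw [commutator_comm]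
    refine commutator_le.2 fun a' ha' c hc => ?_
    rw [commutatorElement_def, show a' * c * a'⁻¹ * c⁻¹ = a' * (c * a'⁻¹ * c⁻¹) by group]
    exact mul_mem ha' ((mem_normalizer_iff.1 (hnorm hc) _).1 (inv_mem ha'))
  set L : Subgroup G := (Cfsg.pCore p (G ⧸ centralizer (B : Set G))).comap (QuotientGroup.mk' _)
    with hL
  haveI hLn : L.Normal := Normal.comap inferInstance _
  have hAL : A ≤ L := fun a ha => hst B hBi hBp a (hq a ha)
  have hCL : centralizer (B : Set G) ≤ L := by
    intro c hc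
    rw [hL, mem_comap, QuotientGroup.mk'_apply, (QuotientGroup.eq_one_iff c).2 hc]
    exact one_mem _
  set T := (S : Subgroup G) ⊓ L with hT
  obtain ⟨Q, hQ⟩ := Tech.exists_sylow_of_inf_normal S L
  rw [← hT] at hQ
  have hfrat : normalizer (T : Set G) ⊔ L = ⊤ := by
    have h1 := Sylow.normalizer_sup_eq_top Q
    rwa [hQ] at h1
  have hLT : L ≤ T ⊔ centralizer (B : Set G) := by
    rw [← relIndex_eq_one]
    have h1 : (T ⊔ centralizer (B : Set G)).relIndex L ∣ T.relIndex L :=
      relIndex_dvd_of_le_left L le_sup_left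
    have h2 : (T ⊔ centralizer (B : Set G)).relIndex L ∣ (centralizer (B : Set G)).relIndex L :=
      relIndex_dvd_of_le_left L le_sup_right
    obtain ⟨k, hk⟩ := IsPGroup.iff_card.1 (Cores.pCore_isPGroup (p := p)
      (G := G ⧸ centralizer (B : Set G)))
    have h3 : (centralizer (B : Set G)).relIndex L = p ^ k := by
      conv_lhs => rw [← QuotientGroup.ker_mk' (centralizer (B : Set G)), relIndex_ker, hL,
        map_comap_eq_self_of_surjective (QuotientGroup.mk'_surjective _)]
      exact hk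
    have h4 : (T.relIndex L).Coprime p := by
      rw [relIndex, show T.subgroupOf L = (Q : Subgroup L) from by
        rw [← hQ]; exact comap_map_eq_self_of_injective L.subtype_injective _]
      exact (hp.out.coprime_iff_not_dvd.2 Q.not_dvd_index).symm
    rw [h3] at h2
    exact Nat.eq_one_of_dvd_coprimes (h4.pow_right k) h1 h2
  have htop : normalizer (T : Set G) ⊔ centralizer (B : Set G) = ⊤ :=
    le_antisymm le_top (hfrat.ge.trans (sup_le le_sup_left
      (hLT.trans (sup_le (le_normalizer.trans le_sup_left) le_sup_right))))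
  have hAT : A ≤ T := le_inf (F.le' hA) hAL
  have hZ₁ : ∀ z ∈ Z, z ∈ sInf (F.mem T) := by
    intro z hz
    rw [hZ, mem_sInf] at hz
    rw [mem_sInf]
    exact fun A' hA' => hz A' ((F.of_le inf_le_left hA hAT A').1 hA').1
  have hcl : B₁ ≤ sInf (F.mem T) := by
    rw [hB₁, normalClosure, closure_le]
    intro x hx
    obtain ⟨z, hz, hc⟩ := Group.mem_conjugatesOfSet_iff.1 hx
    obtain ⟨g, rfl⟩ := isConj_iff.1 hc
    obtain ⟨hzB, hzZ⟩ := Subgroup.mem_inf.1 hz
    obtain ⟨n, hn, c, hc', rfl⟩ : g ∈ ((normalizer (T : Set G)) : Set G) *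
        (centralizer (B : Set G) : Set G) := by
      rw [← mul_normal, htop]; trivial
    have he : n * c * z * (n * c)⁻¹ = n * z * n⁻¹ := by
      rw [show n * c * z * (n * c)⁻¹ = n * (c * z * c⁻¹) * n⁻¹ by group,
        ← mem_centralizer_iff.1 hc' z hzB, mul_inv_cancel_right]
    rw [SetLike.mem_coe, he]
    exact (mem_normalizer_iff.1 (F.normalizer_le_normalizer_sInf T hn) z).1 (hZ₁ z hzZ)
  rw [heq] at hcl
  exact hBA (hcl.trans (_root_.sInf_le ((F.of_le inf_le_left hA hAT A).2 ⟨hA, hAT⟩)))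

/-- The ZJ theorem. -/
theorem sInf_normal [Finite G] [hp : Fact p.Prime] (hp2 : p ≠ 2)
    (hc : centralizer (Cfsg.pCore p G : Set G) ≤ Cfsg.pCore p G)
    (hst : ∀ (P : Subgroup G) [P.Normal], Invar α P → IsPGroup p P → Cfsg.IsPStableOn p P)
    (S : Sylow p G) (hZi : Invar α (sInf (F.mem (S : Subgroup G))))
    (hPi : Invar α (Cfsg.pCore p G)) :
    (sInf (F.mem (S : Subgroup G))).Normal := by
  set Z := sInf (F.mem (S : Subgroup G)) with hZ
  set P := Cfsg.pCore p G with hP
  have hPS : P ≤ S := PSolv.pCore_le_sylow S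
  have hSZ : (S : Subgroup G) ≤ normalizer (Z : Set G) :=
    le_normalizer.trans (F.normalizer_le_normalizer_sInf _)
  suffices hZP : Z ≤ P by
    have := inf_normal F α hp2 hst S hZi P inferInstance hPi Cores.pCore_isPGroup
    rwa [inf_eq_right.2 hZP] at this
  intro z hz
  have hq : ⁅⁅P, zpowers z⁆, zpowers z⁆ = ⊥ := by
    refine le_bot_iff.1 ((commutator_mono (commutator_mono le_rfl (zpowers_le.2 hz))
      (zpowers_le.2 hz)).trans_eq ?_)
    refine commutator_eq_bot_iff_le_centralizer.2
      (le_trans ?_ (Modules.comm_le_centralizer (F.sInf_comm _)))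
    rw [commutator_comm]
    refine commutator_le.2 fun a ha c hc' => ?_
    rw [commutatorElement_def, show a * c * a⁻¹ * c⁻¹ = a * (c * a⁻¹ * c⁻¹) by group]
    exact mul_mem ha ((mem_normalizer_iff.1 (hSZ (hPS hc')) _).1 (inv_mem ha))
  have hL : IsPGroup p ↥((Cfsg.pCore p (G ⧸ centralizer (P : Set G))).comap
      (QuotientGroup.mk' (centralizer (P : Set G)))) := by
    refine Cores.pCore_isPGroup.comap_of_ker_isPGroup _ ?_
    rw [QuotientGroup.ker_mk']
    exact Cores.pCore_isPGroup.to_le hc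
  exact Cores.le_pCore (Normal.comap inferInstance _) hL (hst P hPi Cores.pCore_isPGroup z hq)

universe w

theorem relIndex_dvd_card_of_sup [Finite G] (O Z : Subgroup G) [O.Normal] :
    Z.relIndex (O ⊔ Z) ∣ Nat.card O := by
  have h := Cores.card_sup_dvd_mul Z O
  rw [sup_comm, ← card_mul_index (Z.subgroupOf (O ⊔ Z)),
    Nat.card_congr (subgroupOfEquivOfLe (le_sup_right : Z ≤ O ⊔ Z)).toEquiv] at h
  exact Nat.dvd_of_mul_dvd_mul_left Nat.card_pos h

/-- The factorization for an invariant Sylow subgroup. -/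
theorem sup_normalizer_eq_top [Finite A] [Finite G] [hp : Fact p.Prime] (hp5 : 5 ≤ p)
    (hG : Cfsg.IsPConstrained p G) (hcop : (Nat.card A).Coprime (Nat.card G)) (S : Sylow p G)
    (hSi : Invar α (S : Subgroup G)) {K : Type w} [Field K] [Fintype K] (hK : Fintype.card K = p)
    (hfree : ¬ Cfsg.Involves (Matrix.ProjectiveSpecialLinearGroup (Fin 2) K) (fixSub α)) :
    Cfsg.pPrimeCore p G ⊔ normalizer (Cfsg.centerThompsonAOf (S : Subgroup G) : Set G) = ⊤ := by
  set O := Cfsg.pPrimeCore p G with hO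
  set π := QuotientGroup.mk' O with hπ
  have hπs : Function.Surjective π := QuotientGroup.mk'_surjective O
  have hOi : Invar α O := invar_of_map_eq fun a =>
    characteristic_iff_map_eq.1 inferInstance (α a)
  set α' := quotAct α O hOi with hα'
  set S' := S.mapSurjective hπs with hS'
  set Z := Cfsg.centerThompsonAOf (S : Subgroup G) with hZ
  have hinj : Function.Injective (π.comp (S : Subgroup G).subtype) := by
    rw [injective_iff_map_eq_one]
    exact fun x hx => Subtype.ext (Tech.eq_one_of_mem_pPrimeCore_of_isPGroup S.2 x.2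
      ((QuotientGroup.eq_one_iff (x : G)).1 hx))
  have hZmap : Z.map π = Cfsg.centerThompsonAOf ((S' : Sylow p (G ⧸ O)) : Subgroup (G ⧸ O)) := by
    rw [hS', Sylow.coe_mapSurjective]
    exact Tech.ZJCtrl.map_centerThompsonAOf_injOn π _ hinj
  have hS'i : Invar α' ((S' : Sylow p (G ⧸ O)) : Subgroup (G ⧸ O)) := by
    intro a x hx
    rw [hS', Sylow.coe_mapSurjective] at hx ⊢
    obtain ⟨s, hs, rfl⟩ := hx
    exact ⟨α a s, hSi a s hs, rfl⟩
  set Φ := Stability.abFamily p (G ⧸ O) with hΦ
  have hZeq : sInf (Φ.mem ((S' : Sylow p (G ⧸ O)) : Subgroup (G ⧸ O))) =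
      Cfsg.centerThompsonAOf ((S' : Sylow p (G ⧸ O)) : Subgroup (G ⧸ O)) :=
    (EvenLocal.centerThompsonAOf_eq_sInf _).symm
  have hfree' : ¬ Cfsg.Involves (Matrix.ProjectiveSpecialLinearGroup (Fin 2) K) (fixSub α') :=
    fun h => hfree (involves_of_quot α hcop O hOi h)
  have hst : ∀ (P : Subgroup (G ⧸ O)) [P.Normal], Invar α' P → IsPGroup p P →
      Cfsg.IsPStableOn p P := by
    intro P _ hPi hPp a hq
    refine mem_stabCore hp5 hK (G ⧸ O) α' (hcop.coprime_dvd_right (card_quotient_dvd_card O))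
      hfree' P hPi hPp a fun β hβ => ?_
    have h1 := commutator_eq_bot_iff_le_centralizer.1 hq
      (commutator_mem_commutator hβ (mem_zpowers a))
    have h2 : Commute a ⁅β, a⁆ := mem_centralizer_iff.1 h1 a (mem_zpowers a)
    rw [show a * β * a⁻¹ * β⁻¹ = ⁅β, a⁆⁻¹ by rw [commutatorElement_def]; group]
    exact h2.inv_right
  have hn : (Cfsg.centerThompsonAOf ((S' : Sylow p (G ⧸ O)) : Subgroup (G ⧸ O))).Normal := by
    rw [← hZeq]
    refine sInf_normal Φ α' (by omega) (CharTwo.isPConstrained_iff.1 hG) hst S' ?_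
      (invar_of_map_eq fun a => characteristic_iff_map_eq.1 inferInstance (α' a))
    rw [hZeq]
    refine invar_of_map_eq fun a => ?_
    rw [Modules.map_centerThompsonAOf (f := (α' a).toMonoidHom) (α' a).injective, hS'i.map_eq a]
  rw [← hZmap] at hn
  set Y := (Z.map π).comap π with hY
  haveI hYn : Y.Normal := hn.comap π
  have hZY : Z ≤ Y := le_comap_map π Z
  have hYeq : Y = Z ⊔ O := by rw [hY, comap_map_eq, hπ, QuotientGroup.ker_mk']
  have hZp : IsPGroup p Z := S.2.to_le (Modules.centerThompsonAOf_le _)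
  have hidx : ¬ p ∣ (Z.subgroupOf Y).index := by
    intro hd
    refine hp.out.coprime_iff_not_dvd.1 (Cores.pPrimeCore_coprime (p := p) (G := G)).symm
      (hd.trans ?_)
    show Z.relIndex Y ∣ _
    rw [hYeq, sup_comm, ← hO]
    exact relIndex_dvd_card_of_sup O Z
  have hfr := Sylow.normalizer_sup_eq_top ((hZp.comap_subtype (K := Y)).toSylow hidx)
  have hco : ((((hZp.comap_subtype (K := Y)).toSylow hidx) : Sylow p Y) : Subgroup Y) =
      Z.subgroupOf Y := rfl
  rw [hco, show (Z.subgroupOf Y).map Y.subtype = Z from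
    map_subgroupOf_eq_of_le hZY] at hfr
  rw [eq_top_iff, ← hfr, hYeq]
  exact sup_le le_sup_right (sup_le (le_normalizer.trans le_sup_right) le_sup_left)

end Cfsg.Agent.FixedQuad
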